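import Mathlib
import Cfsg.Agent.Lib.SpecSq.Main

/-!
The element orders of the direct square of the first Janko group, and general lemmas on groups
without elements of order `p ^ 2`.
-/

set_option autoImplicit false
set_option linter.unusedSectionVars false
set_option linter.style.haveILetI false

namespace CfsgLib.SpecSq

open Cfsg Subgroup CfsgLib.BG CfsgLib.CIT.App
open scoped commutatorElement

variable {G : Type*} [Group G] [Finite G] {Γ : Type*} [Group Γ] [Finite Γ] {π : G →* Γ}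

/-- the maximal element orders -/
def om : List ℕ := [30, 42, 66, 114, 70, 110, 190, 105, 165, 285, 77, 133, 209]

/-- all element orders are allowed -/
def UJ (G : Type*) [Group G] : Prop := ∀ g : G, ∃ m ∈ om, orderOf g ∣ m

/-- all allowed orders occur -/
def LJ (G : Type*) [Group G] : Prop := ∀ m ∈ om, HasOrd G m

/-- the large primes -/
abbrev Rho (r : ℕ) : Prop := r = 7 ∨ r = 11 ∨ r = 19

theorem Rho.prime {r : ℕ} (h : Rho r) : r.Prime := by rcases h with rfl | rfl | rfl <;> norm_num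

theorem UJ.of_surj (h : UJ G) (π : G →* Γ) (hπ : Function.Surjective π) : UJ Γ := fun γ => by
  obtain ⟨g, rfl⟩ := hπ γ
  exact (h g).imp fun m hm => ⟨hm.1, (orderOf_map_dvd π g).trans hm.2⟩

theorem UJ.no (h : UJ G) {k : ℕ} (hk : ∀ m ∈ om, ¬ k ∣ m) : ¬ HasOrd G k := by
  rintro ⟨g, rfl⟩
  obtain ⟨m, h1, h2⟩ := h g
  exact hk m h1 h2

theorem UJ.dvd (h : UJ G) (g : G) : orderOf g ∣ 43890 := by
  obtain ⟨m, h1, h2⟩ := h g
  exact h2.trans ((by decide : ∀ m ∈ om, m ∣ 43890) m h1)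

theorem UJ.sq (h : UJ G) {p : ℕ} (hp : p.Prime) : ¬ HasOrd G (p ^ 2) := by
  rintro ⟨g, hg⟩
  have := (by decide +kernel : Squarefree 43890) p (by rw [← pow_two, ← hg]; exact h.dvd g)
  exact hp.ne_one (Nat.isUnit_iff.1 this)

theorem UJ.cls (h : UJ G) {p : ℕ} (hp : p.Prime) (hd : p ∣ Nat.card G) :
    (p = 2 ∨ p = 3 ∨ p = 5) ∨ Rho p := by
  obtain ⟨g, hg⟩ := hasOrd_of_prime_dvd hp hd
  have h1 : p ∈ (43890 : ℕ).primeFactorsList := (Nat.mem_primeFactorsList (by norm_num)).2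
    ⟨hp, hg ▸ h.dvd g⟩
  have h2 : (43890 : ℕ).primeFactorsList = [2, 3, 5, 7, 11, 19] := by simp
  simp only [h2, List.mem_cons, List.not_mem_nil, or_false] at h1
  tauto

theorem LJ.has (h : LJ G) {k : ℕ} (hk : ∃ m ∈ om, k ∣ m) : HasOrd G k :=
  let ⟨m, h1, h2⟩ := hk
  (h m h1).of_dvd h2

theorem pow_eq_one_of_pgp {p : ℕ} (hp : p.Prime) (hno : ¬ HasOrd G (p ^ 2)) {D : Subgroup G}
    (hD : IsPiSubgroup {p} D) {x : G} (hx : x ∈ D) : x ^ p = 1 := by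
  obtain ⟨e, he⟩ := pgp_isPGroup hD ⟨x, hx⟩
  simpa using pow_eq_one_of_not_hasOrd (a := 1) hp (congrArg Subtype.val he) hno

theorem line_of_no_sq {p : ℕ} (hp : p.Prime) (hno : ¬ HasOrd G (p ^ 2)) {D : Subgroup G}
    (hD : IsPiSubgroup {p} D) (h1 : D ≠ ⊥) (h : ∀ E, ¬ PnElem p 2 D E) : PnElem p 1 D D := by
  have h2 := Ohm1_line hp hD h1 h
  rwa [le_antisymm (Ohm1_sub p D) fun x hx => mem_Ohm1 hx (pow_eq_one_of_pgp hp hno hD hx)] at h2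

theorem exists_pn2 {p : ℕ} (hp : p.Prime) (hno : ¬ HasOrd G (p ^ 2)) {S : Subgroup G}
    (h : p ^ 2 ∣ Nat.card S) : ∃ E, PnElem p 2 S E := by
  by_contra hn
  push Not at hn
  obtain ⟨P, hP⟩ := Sylow_exists hp S
  have h1 := (line_of_no_sq hp hno hP.2.1
    (Sylow_ne_bot hp hP ((dvd_pow_self p two_ne_zero).trans h)) fun E hE =>
      hn E (hE.mono hP.1)).card
  rw [card_Sylow hp hP, Nat.pow_right_inj hp.one_lt] at h1
  have := (hp.pow_dvd_iff_le_factorization Nat.card_pos.ne').1 h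
  omega

theorem abelem_two (h4 : ¬ HasOrd G (2 ^ 2)) {Q : Subgroup G} (hQ : IsPiSubgroup {2} Q) :
    IsElementaryAbelian 2 Q := by
  have h : ∀ x ∈ Q, x⁻¹ = x := fun x hx => inv_eq_of_mul_eq_one_right
    ((pow_two x).symm.trans (pow_eq_one_of_pgp Nat.prime_two h4 hQ hx))
  refine ⟨abelian_iff.2 (cents_iff.2 fun a ha b hb => ?_),
    fun x hx => pow_eq_one_of_pgp Nat.prime_two h4 hQ hx⟩
  rw [← h _ (mul_mem ha hb), mul_inv_rev, h a ha, h b hb]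

/-- two covering subgroups, one of them normal -/
theorem cover_sol (hK : Group.IsSolvable π.ker) {S : Subgroup Γ} (hS : ⁅S, S⁆ = S)
    {B C : Subgroup G} (hn : ⊤ ≤ 𝒩(C)) (hB : S ≤ B.map π) (hC : S ≤ C.map π) :
    S ≤ (B ⊓ C).map π := by
  haveI : C.Normal := normalizer_eq_top_iff.1 (top_le_iff.1 hn)
  obtain ⟨D, ⟨h1, h2⟩, hmin⟩ := exists_minimal_of_wellFoundedLT
    (fun D : Subgroup G => D ≤ B ∧ S ≤ D.map π) ⟨B, le_rfl, hB⟩
  have h3 : D ≤ ⁅D, D⁆ := hmin ⟨(der_sub D).trans h1, cover_der hS h2⟩ (der_sub D)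
  have h4 : D ≤ S.comap π := (hmin (y := D ⊓ S.comap π) ⟨inf_le_left.trans h1, by
    rw [map_inf_comap]; exact le_inf h2 le_rfl⟩ inf_le_left).trans inf_le_right
  have h5 : D.map (QuotientGroup.mk' C) ≤ π.ker.map (QuotientGroup.mk' C) :=
    map_le_of_sup _ (QuotientGroup.ker_mk' C).ge
      (h4.trans ((comap_mono hC).trans (comap_map_eq π C).le))
  refine h2.trans (map_mono (le_inf h1 ?_))
  rw [← QuotientGroup.ker_mk' C, ← Subgroup.map_eq_bot_iff]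
  by_contra hne
  refine (sol_der1_proper (solvableS h5 ?_) hne).not_ge ?_
  · exact Group.isSolvable_of_surjective ((QuotientGroup.mk' C).subgroupMap_surjective π.ker)
  · rw [← map_commutator]
    exact map_mono h3

/-- lifting a `t`-subgroup so that its normaliser covers -/
theorem lift_cover {t : ℕ} (ht : t.Prime) {A : Subgroup G} {Q' : Subgroup Γ}
    (hQ : IsPiSubgroup {t} Q') (hQA : Q' ≤ A.map π) : ∃ Q : Subgroup G, Q ≤ A ∧
      IsPiSubgroup {t} Q ∧ Q.map π = Q' ∧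
        ∀ S, S ≤ A.map π → S ≤ 𝒩(Q') → S ≤ (A ⊓ 𝒩(Q)).map π := by
  have hB : (A ⊓ Q'.comap π).map π = Q' := by rw [map_inf_comap, inf_eq_right.2 hQA]
  obtain ⟨Q, hS⟩ := Sylow_exists ht (A ⊓ Q'.comap π)
  have hm : Q.map π = Q' := (map_Sylow π (hB.symm ▸ hQ) hS).trans hB
  have hQA' : Q ≤ A := hS.1.trans inf_le_left
  refine ⟨Q, hQA', hS.2.1, hm, fun S h1 h2 x' hx => ?_⟩
  obtain ⟨x, hxA, rfl⟩ := h1 hx
  have hn : A ⊓ 𝒩(A ⊓ Q'.comap π) ≤ 𝒩(A ⊓ Q'.comap π) := inf_le_right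
  obtain ⟨b, hb, c, hc, e⟩ := Frattini_arg_mem ht hn (le_inf inf_le_left (normG _)) hS
    ⟨hxA, normsGI (zpowers_le.2 hxA) (zpowers_le.2 (le_normalizer_comap π (h2 hx))) (mem_zpowers x)⟩
  obtain ⟨q, hq, e2⟩ : π b ∈ Q.map π := hm ▸ hb.2
  exact ⟨q * c, ⟨A.mul_mem (hQA' hq) hc.1.1, (𝒩(Q)).mul_mem (normG Q hq) hc.2⟩,
    by rw [map_mul, e2, ← map_mul, e]⟩

theorem hasOrd_sub {Y : Subgroup G} {k : ℕ} : HasOrd Y k ↔ ∃ g ∈ Y, orderOf g = k :=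
  ⟨fun ⟨g, h⟩ => ⟨g, g.2, (orderOf_coe g).trans h⟩,
    fun ⟨g, h1, h2⟩ => ⟨⟨g, h1⟩, (orderOf_coe _).symm.trans h2⟩⟩

theorem hasOrd_comap (hπ : Function.Surjective π) {B : Subgroup Γ} {g : G} {γ : Γ}
    (h : cj γ (zpowers (π g)) ≤ B) : HasOrd (B.comap π) (orderOf g) := by
  obtain ⟨z, rfl⟩ := hπ γ
  rw [cj_zpowers, zpowers_le, ← map_inv, ← map_mul, ← map_mul] at h
  exact hasOrd_sub.2 ⟨_, h, BG.orderOf_conj z _⟩

theorem exists_mul_of_cent {a b : ℕ} (ha : a.Prime) (hb : b.Prime) (hab : a ≠ b)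
    {X P Y : Subgroup G} (hX : a ∣ Nat.card X) (hP : b ∣ Nat.card P) (hc : P ≤ 𝒞(X)) (h1 : X ≤ Y)
    (h2 : P ≤ Y) : ∃ g ∈ Y, orderOf g = a * b := by
  obtain ⟨⟨x, hx⟩, e1⟩ := hasOrd_of_prime_dvd ha hX
  obtain ⟨⟨y, hy⟩, e2⟩ := hasOrd_of_prime_dvd hb hP
  rw [← orderOf_coe] at e1 e2
  have h3 : Commute x y := (cents_iff.1 hc y hy x hx).symm
  exact ⟨x * y, mul_mem (h1 hx) (h2 hy), by
    rw [h3.orderOf_mul_eq_mul_orderOf_of_coprime
      (by rw [e1, e2]; exact (Nat.coprime_primes ha hb).2 hab), e1, e2]⟩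

/-- a noncyclic `a`-group normalising a `b`-group -/
theorem exists_mul_of_sq {a b : ℕ} (ha : a.Prime) (hb : b.Prime) (hab : a ≠ b)
    {E H P Y : Subgroup G} (hE : PnElem a 2 H E) (hP : IsPiSubgroup {b} P) (hP1 : P ≠ ⊥)
    (hn : E ≤ 𝒩(P)) (h1 : E ≤ Y) (h2 : P ≤ Y) : ∃ g ∈ Y, orderOf g = a * b := by
  obtain ⟨X, hX, h3⟩ := gen ha hE hn (pgp_coprime_of_ne hP (hE.pgroup ha) hab.symm) hP1
  exact exists_mul_of_cent ha hb hab hX.self.dvd1 (pgp_pdiv (pigroupS inf_le_left hP) h3).2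
    inf_le_right (hX.le.trans h1) (inf_le_left.trans h2)

theorem hasOrd_comap_of_sq (hπ : Function.Surjective π) (hK : Group.IsSolvable π.ker) {a b : ℕ}
    (ha : a.Prime) (hb : b.Prime) (hab : a ≠ b) (hno : ¬ HasOrd G (a ^ 2))
    (hd : b ∣ Nat.card π.ker) {B E' : Subgroup Γ} (hE : PnElem a 2 B E') :
    HasOrd (B.comap π) (a * b) := by
  obtain ⟨P, hP⟩ := Sylow_exists hb π.ker
  obtain ⟨Q, h1, -, rfl, -⟩ := lift_cover ha (hE.pgroup ha) (cover_of_Hall hπ hK hP E')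
  obtain ⟨E, h2⟩ := exists_pn2 ha hno (hE.card ▸ card_map_dvd Q π)
  exact hasOrd_sub.2 (exists_mul_of_sq ha hb hab h2 hP.2.1 (Sylow_ne_bot hb hP hd) (h2.le.trans h1)
    (h2.le.trans (map_le_iff_le_comap.1 hE.le)) (hP.1.trans (B.ker_le_comap π)))

theorem decomp {L : Subgroup Γ} (hL : L ⊓ 𝒞(L) = ⊥) {y : Γ} (hy : y ∈ L ⊔ 𝒞(L)) :
    ∃ l ∈ L, ∃ c ∈ 𝒞(L), l * c = y ∧ ∀ k : ℕ, y ^ k = 1 → l ^ k = 1 ∧ c ^ k = 1 := by
  obtain ⟨l, hl, c, hc, rfl⟩ := (mem_sup_norm_l (cent_sub L)).1 hy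
  refine ⟨l, hl, c, hc, rfl, fun k hk => ?_⟩
  rw [Commute.mul_pow (mem_cent_iff.1 hc l hl)] at hk
  have h1 : l ^ k = 1 := by
    rw [← mem_bot, ← hL]
    exact ⟨pow_mem hl k, eq_inv_of_mul_eq_one_left hk ▸ (𝒞(L)).inv_mem (pow_mem hc k)⟩
  exact ⟨h1, by rwa [h1, one_mul] at hk⟩

theorem mem_cent_of_not_dvd {L : Subgroup Γ} (hL : L ⊓ 𝒞(L) = ⊥) {y : Γ} (hy : y ∈ L ⊔ 𝒞(L))
    (h : (orderOf y).Coprime (Nat.card L)) : y ∈ 𝒞(L) := by
  obtain ⟨l, hl, c, hc, e, h1⟩ := decomp hL hy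
  have h2 : l = 1 := orderOf_eq_one_iff.1 (Nat.eq_one_of_dvd_coprimes h
    (orderOf_dvd_of_pow_eq_one (h1 _ (pow_orderOf_eq_one y)).1) (order_dvdG hl))
  rwa [← e, h2, one_mul]

theorem mem_of_pow_mem {H : Subgroup Γ} {y : Γ} {k : ℕ} (h : y ^ k ∈ H)
    (hc : (orderOf y).Coprime k) : y ∈ H := by
  obtain ⟨m, hm⟩ := exists_pow_eq_self_of_coprime hc.symm
  exact hm ▸ pow_mem h m

end CfsgLib.SpecSq
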