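import Mathlib
import Cfsg.Agent.Lib.SpecSq.JA
import Cfsg.Agent.Lib.Syl8.Base
import Cfsg.Agent.Lib.Ree.Torus
import Cfsg.Agent.Lib.Ree.Twisted
import Cfsg.Agent.S3627
import Cfsg.Agent.S2065

/-!
The components of a group with the element orders of the direct square of the first Janko group.
-/

set_option autoImplicit false
set_option linter.unusedSectionVars false
set_option linter.style.haveILetI false

namespace CfsgLib.SpecSq

open Cfsg Subgroup CfsgLib.BG CfsgLib.CIT.App CfsgLib.Comp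
open scoped commutatorElement MatrixGroups

universe u

variable {Γ : Type u} [Group Γ] [Finite Γ]

theorem pow_card_out_mem (L : Subgroup Γ) {g : Γ} (hg : g ∈ 𝒩(L)) :
    g ^ Nat.card (Out L) ∈ L ⊔ 𝒞(L) := by
  have h1 : (QuotientGroup.mk' (Inn L) (L.normalizerMonoidHom ⟨g, hg⟩)) ^ Nat.card (Out L) = 1 :=
    pow_card_eq_one'
  rw [← map_pow, ← map_pow, QuotientGroup.mk'_apply, QuotientGroup.eq_one_iff] at h1
  obtain ⟨t, ht⟩ := h1
  generalize Nat.card (Out L) = k at ht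
  have h2 : (t : Γ)⁻¹ * g ^ k ∈ 𝒞(L) := mem_centralizer_iff.2 fun x hx => by
    have h3 : (t : Γ) * x * (t : Γ)⁻¹ = g ^ k * x * (g ^ k)⁻¹ :=
      (congrArg Subtype.val (DFunLike.congr_fun ht ⟨x, hx⟩) :)
    calc x * ((t : Γ)⁻¹ * g ^ k) = (t : Γ)⁻¹ * (t * x * (t : Γ)⁻¹) * g ^ k := by group
      _ = _ := by rw [h3]; group
  rw [← mul_inv_cancel_left (t : Γ) (g ^ k)]
  exact mul_mem (mem_sup_left t.2) (mem_sup_right h2)

/-- common properties of the components -/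
structure CP (S : Subgroup Γ) : Prop where
  simp : Simp S
  der : ⁅S, S⁆ = S
  inf_cent : S ⊓ 𝒞(S) = ⊥
  out : ∀ g ∈ 𝒩(S), g ^ 2 ∈ S ⊔ 𝒞(S)
  d60 : 60 ∣ Nat.card S

/-- properties of the first Janko group -/
structure JP (S : Subgroup Γ) : Prop extends CP S where
  card : Nat.card S = 175560
  out1 : 𝒩(S) ≤ S ⊔ 𝒞(S)
  ord : ∀ s ∈ S, orderOf s ∈ [1, 2, 3, 5, 6, 7, 10, 11, 15, 19]
  frob : ∀ p, (p = 2 ∨ p = 3 ∨ p = 5) ∨ p = 7 → ∃ (t : ℕ) (Q : Subgroup Γ) (x : Γ), t.Prime ∧ p ≠ t ∧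
    (p = 7 → t = 2) ∧ (∀ b k, b ≤ 1 → 1 ≤ k → p ^ b ≠ t ^ k + 1) ∧ IsPiSubgroup {t} Q ∧ Q ≤ S ∧
      x ∈ S ∧ x ∈ 𝒩(Q) ∧ x ^ p = 1 ∧ x ∉ 𝒞(Q)

theorem conj_pow_pow {X : Type*} [Group X] {g c : X} {μ : ℕ} (h : c * g = g ^ μ * c) (k : ℕ) :
    c ^ k * g * (c ^ k)⁻¹ = g ^ μ ^ k := by
  induction k with
  | zero => simp
  | succ k ih =>
    rw [pow_succ', mul_inv_rev, mul_assoc c, mul_assoc c, ← mul_assoc _ _ c⁻¹, ih, ← mul_assoc,
      ← conj_pow, h, mul_inv_cancel_right, ← pow_mul, pow_succ']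

theorem j1_ord (x : Spor.J1) : orderOf x ∈ [1, 2, 3, 5, 6, 7, 10, 11, 15, 19] :=
  Agent.S3627.spec.le ⟨x, rfl⟩

theorem j1_pair : ∀ v ∈ [(2, 7, 3, 3), (3, 7, 3, 2), (5, 11, 8, 2)], ∃ g x : Spor.J1,
    orderOf g = v.2.1 ∧ x ^ v.1 = 1 ∧ (∃ k : ℕ, x * g * x⁻¹ = g ^ k) ∧ x * g ≠ g * x := by
  intro v hv
  have h0 : ∀ v ∈ [(2, 7, 3, 3), (3, 7, 3, 2), (5, 11, 8, 2)], (v.2.1, v.2.2.1) ∈
      [(7, 3), (11, 8), (19, 8)] ∧ v.2.1.Prime ∧ ¬ v.2.2.1 ^ v.2.2.2 ≡ 1 [MOD v.2.1] ∧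
      ∀ n ∈ [1, 2, 3, 5, 6, 7, 10, 11, 15, 19], v.2.2.1 ^ n ≡ 1 [MOD v.2.1] →
        n = v.2.2.2 * v.1 := by decide +kernel
  obtain ⟨a1, a2, a3, a4⟩ := h0 v hv
  obtain ⟨g, c, h1, h2, h3⟩ := Agent.S3627.j1_aut _ a1
  haveI := Fact.mk a2
  have ho := orderOf_eq_prime h1 h2
  have key : ∀ k, c ^ k * g = g * c ^ k → v.2.2.1 ^ k ≡ 1 [MOD v.2.1] := fun k hk => by
    have h4 := conj_pow_pow h3 k
    rw [hk, mul_inv_cancel_right] at h4
    exact ho ▸ pow_eq_pow_iff_modEq.1 (h4.symm.trans (pow_one g).symm)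
  refine ⟨g, c ^ v.2.2.2, ho, ?_, ⟨_, conj_pow_pow h3 _⟩, fun h => a3 (key _ h)⟩
  rw [← pow_mul, ← a4 _ (j1_ord c) (key _ (by rw [pow_orderOf_eq_one, one_mul, mul_one])),
    pow_orderOf_eq_one]

theorem pow_ne_add {p t : ℕ} (ht : 2 ≤ t) (h : ∀ k < 3, 1 ≤ k → p ≠ t ^ k + 1) (hp : p ≤ 8) (b k : ℕ)
    (hb : b ≤ 1) (hk : 1 ≤ k) : p ^ b ≠ t ^ k + 1 := by
  have h1 : 2 ^ k ≤ t ^ k := Nat.pow_le_pow_left ht k
  have h2 : 0 < 2 ^ k := Nat.two_pow_pos k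
  interval_cases b
  · rw [pow_zero]; omega
  · rw [pow_one]
    by_cases h3 : k < 3
    · exact h k h3 hk
    · have : 2 ^ 3 ≤ 2 ^ k := Nat.pow_le_pow_right two_pos (by omega)
      omega

theorem jp_of (hU : UJ Γ) {S : Subgroup Γ} (hS : CP S) (e : S ≃* Spor.J1) : JP S := by
  have hc : Nat.card S = 175560 := (Nat.card_congr e.toEquiv).trans J1.card_J1
  have ho : ∀ s ∈ S, orderOf s ∈ [1, 2, 3, 5, 6, 7, 10, 11, 15, 19] := fun s hs => by
    have := j1_ord (e ⟨s, hs⟩)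
    rwa [MulEquiv.orderOf_eq, ← orderOf_coe] at this
  refine ⟨hS, hc, fun g hg => ?_, ho, fun p hp => ?_⟩
  · have := pow_card_out_mem S hg
    rwa [MultC.card_out_congr e, Agent.S2065.result, pow_one] at this
  have key : ∀ v ∈ [(2, 7, 3, 3), (3, 7, 3, 2), (5, 11, 8, 2)], v.2.1.Prime → ∃ (Q : Subgroup Γ) (x : Γ),
      IsPiSubgroup {v.2.1} Q ∧ Q ≤ S ∧ x ∈ S ∧ x ∈ 𝒩(Q) ∧ x ^ v.1 = 1 ∧ x ∉ 𝒞(Q) := fun v hv ht => by
    obtain ⟨g, x, h1, h2, ⟨k, h3⟩, h4⟩ := j1_pair v hv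
    let ι : Spor.J1 →* Γ := S.subtype.comp e.symm.toMonoidHom
    have hι : Function.Injective ι := S.subtype_injective.comp e.symm.injective
    have h5 := pnElem1_zpowers ht (H := S) (x := ι g) (e.symm g).2
      ((orderOf_injective ι hι g).trans h1)
    refine ⟨_, ι x, h5.pgroup ht, h5.le, (e.symm x).2, mem_norm_of_cj_le ?_,
      by rw [← map_pow, h2, map_one], fun h => h4 (hι ?_)⟩
    · rw [cj_zpowers, ← map_inv, ← map_mul, ← map_mul, h3, map_pow, zpowers_le]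
      exact npow_mem_zpowers _ _
    · rw [map_mul, map_mul]
      exact (mem_cent_iff.1 h _ (mem_zpowers _)).symm
  rcases hp with (rfl | rfl | rfl) | rfl
  · obtain ⟨Q, x, h⟩ := key (2, 7, 3, 3) (by simp) (by norm_num)
    exact ⟨7, Q, x, by norm_num, by norm_num, by norm_num,
      pow_ne_add (by norm_num) (by decide) (by norm_num), h⟩
  · obtain ⟨Q, x, h⟩ := key (3, 7, 3, 2) (by simp) (by norm_num)
    exact ⟨7, Q, x, by norm_num, by norm_num, by norm_num,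
      pow_ne_add (by norm_num) (by decide) (by norm_num), h⟩
  · obtain ⟨Q, x, h⟩ := key (5, 11, 8, 2) (by simp) (by norm_num)
    exact ⟨11, Q, x, by norm_num, by norm_num, by norm_num,
      pow_ne_add (by norm_num) (by decide) (by norm_num), h⟩
  haveI := Fact.mk Nat.prime_two
  haveI : IsSimpleGroup S := e.isSimpleGroup
  have hab : Abel2.Ab2 S := fun T => (abelem_two (fun h => hU.sq Nat.prime_two h.of_subgroup)
    (isSylowOf_top Nat.prime_two T).2.1).1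
  obtain ⟨T⟩ : Nonempty (Sylow 2 S) := inferInstance
  have hT : Nat.card T = 8 := by rw [T.card_eq_multiplicity, hc]; decide +kernel
  obtain ⟨C, h1, -, h2⟩ := ReeRec.exists_cyclic (fun h => by
    have := hS.inf_cent
    rw [inf_eq_left.2 (abelian_iff.1 h)] at this
    rw [this, card_bot] at hc
    omega) hab T
  haveI : Fact (Nat.Prime 7) := ⟨by norm_num⟩
  obtain ⟨x, hx⟩ := exists_prime_orderOf_dvd_card' (G := C) 7 (by rw [h2, hT])
  have hx' : orderOf (x.1 : Γ) = 7 := by rwa [orderOf_coe, orderOf_coe]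
  have hQ := isSylowOf_map Nat.prime_two T
  refine ⟨2, _, x.1, Nat.prime_two, by norm_num, by norm_num,
    pow_ne_add le_rfl (by decide) (by norm_num), hQ.2.1, hQ.1, x.1.2,
    le_normalizer_map _ ⟨x.1, h1 x.2, rfl⟩, hx' ▸ pow_orderOf_eq_one _, fun h => ?_⟩
  obtain ⟨g, hg, e⟩ := exists_mul_of_cent (a := 2) (b := 7) Nat.prime_two (by norm_num) (by norm_num)
    (pgp_pdiv hQ.2.1 (Sylow_ne_bot Nat.prime_two hQ (by rw [hc]; norm_num))).2
    (by rw [Nat.card_zpowers, hx']) (zpowers_le.2 h) hQ.1 (zpowers_le.2 x.1.2)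
  exact absurd (e ▸ ho g hg) (by decide)

theorem cp_of {L : Subgroup Γ} (hL : IsComponent L) (h1 : L ⊓ 𝒞(L) = ⊥)
    (h2 : Nat.card (Out L) ∣ 2) (h3 : 60 ∣ Nat.card L) : CP L := by
  refine ⟨fun N a b c => ((qs_sub_normal hL.2 a b).resolve_right fun h =>
    c (le_bot_iff.1 (h1 ▸ le_inf a h))).ge, comp_perfect hL, h1, fun g hg => ?_, h3⟩
  obtain ⟨k, hk⟩ := h2
  rw [hk, pow_mul]
  exact pow_mem (pow_card_out_mem L hg) k

set_option synthInstance.maxSize 4000 in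
set_option synthInstance.maxHeartbeats 200000 in
theorem ar_odd : ∀ p : ℕ, p < 20 → ∀ n : ℕ, n < 10 → 5 ≤ p ^ n → (p ^ n % 8 = 3 ∨ p ^ n % 8 = 5) →
    (∃ m ∈ om, p ∣ m) → (∃ m ∈ om, (p ^ n - 1) / 2 ∣ m) → (∃ m ∈ om, (p ^ n + 1) / 2 ∣ m) →
      p.Prime → n = 1 ∧ (p = 5 ∨ p = 11) := by decide +kernel

theorem comp_cases (hF : fittingSubgroup Γ = ⊥) (hU : UJ Γ) {L : Subgroup Γ} (hL : IsComponent L) :
    CP L ∧ (Nat.card L = 60 ∨ (Nat.card L = 660 ∧ ¬ HasOrd L 55) ∨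
      (JP L ∧ Nonempty (L ≃* Spor.J1))) := by
  have h1 : L ⊓ 𝒞(L) = ⊥ := le_bot_iff.1 (hF ▸ comp_inf_centralizer_le_fit hL)
  haveI := isSimpleGroup_of_qs_of_center_eq_bot hL.2 (by
    rwa [← map_eq_bot_iff_of_injective _ L.subtype_injective, map_center_subtype])
  haveI := Fact.mk Nat.prime_two
  have hab : Abel2.Ab2 L := fun T => (abelem_two (fun h => hU.sq Nat.prime_two h.of_subgroup)
    (isSylowOf_top Nat.prime_two T).2.1).1
  have ho : ∀ k, HasOrd L k → ∃ m ∈ om, k ∣ m := fun k hk => by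
    by_contra hn
    push Not at hn
    exact hU.no hn hk.of_subgroup
  have hb : ∀ k, HasOrd L k → k ≤ 285 := fun k hk => by
    obtain ⟨m, a, b⟩ := ho k hk
    have := (by decide : ∀ m ∈ om, 0 < m ∧ m ≤ 285) m a
    exact (Nat.le_of_dvd this.1 b).trans this.2
  rcases ReeRec.walter (qs_not_isMulCommutative hL.2) hab with
    ⟨a, ha, F, _, _, hq, ⟨e⟩⟩ | ⟨F, _, _, h5, h8, ⟨e⟩⟩ | ⟨K, _, _, m, hm, hK, ⟨e⟩⟩ | ⟨⟨e⟩⟩
  · have k1 := (hasOrd_congr e).2 ((psl2_even_hasOrd (by omega) hq _).2 (.inr (.inl dvd_rfl)))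
    have k2 := (hasOrd_congr e).2 ((psl2_even_hasOrd (by omega) hq _).2 (.inr (.inr dvd_rfl)))
    have k3 : a < 9 := (Nat.pow_lt_pow_iff_right one_lt_two).1 (by have := hb _ k2; omega)
    obtain rfl : a = 2 := (by decide : ∀ a < 9, 2 ≤ a → (∃ m ∈ om, 2 ^ a - 1 ∣ m) →
      (∃ m ∈ om, 2 ^ a + 1 ∣ m) → a = 2) a k3 ha (ho _ k1) (ho _ k2)
    have hc : Nat.card L = 60 := (Nat.card_congr e.toEquiv).trans (psl2_even_card two_ne_zero hq)
    exact ⟨cp_of hL h1 (by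
      rw [MultC.card_out_congr e, Syl8.card_out_psl Nat.prime_two hq le_rfl]; norm_num) hc.symm.dvd,
      .inl hc⟩
  · obtain ⟨p, _, n, hp, hq⟩ := FiniteField.card' F
    have hodd : Odd (Fintype.card F) := Nat.odd_iff.2 (by omega)
    have k0 := fun k => (hasOrd_congr e (k := k)).trans (psl2_odd_hasOrd hp hq hodd k)
    have k1 := ho _ ((k0 _).2 (.inl dvd_rfl))
    have k2 := ho _ ((k0 _).2 (.inr (.inl dvd_rfl)))
    have k3 := (k0 _).2 (.inr (.inr dvd_rfl))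
    have k4 := hb _ k3
    have k5 : n.1 < 10 := (Nat.pow_lt_pow_iff_right one_lt_two).1
      ((Nat.pow_le_pow_left hp.two_le _).trans_lt (by change p ^ (n : ℕ) < _; omega))
    have k6 : p < 20 := by
      have := hU.cls hp ((k0 p).2 (.inl dvd_rfl)).of_subgroup.dvd_card
      omega
    have k7 := ar_odd p k6 n k5 (hq ▸ h5) (hq ▸ h8) k1 (hq ▸ k2) (hq ▸ ho _ k3) hp
    have hc := psl2_odd_card hodd
    have hO := Syl8.card_out_psl hp hq (by omega)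
    rw [← Nat.card_congr e.toEquiv] at hc
    rw [← MultC.card_out_congr e] at hO
    rw [k7.1, pow_one] at hq hO
    rw [hq] at hc k0
    rcases k7.2 with rfl | rfl
    · exact ⟨cp_of hL h1 (by rw [hO]; norm_num) (by omega), .inl (by omega)⟩
    · exact ⟨cp_of hL h1 (by rw [hO]; norm_num) (by omega),
        .inr (.inl ⟨by omega, by rw [k0]; norm_num⟩)⟩
  · haveI := Ree.charP_three hK
    exact absurd ((hasOrd_congr e).2 (((Ree.reeModel hK).exists_orderOf_iff (Ree.isTits_tits hK) hm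
      (Ree.natCard_eq hK) 9).2 (.inr (.inl dvd_rfl)))).of_subgroup (hU.sq Nat.prime_three)
  · have h2 := cp_of hL h1 (by rw [MultC.card_out_congr e, Agent.S2065.result]; norm_num)
      (by rw [Nat.card_congr e.toEquiv, J1.card_J1]; norm_num)
    exact ⟨h2, .inr (.inr ⟨jp_of hU h2 e, ⟨e⟩⟩)⟩

end CfsgLib.SpecSq
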