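import Mathlib
import Cfsg.Agent.Lib.SpecSq.JB
import Cfsg.Agent.Lib.BG.S15_5

/-!
The action of a first Janko group on the solvable radical.
-/

set_option autoImplicit false
set_option linter.unusedSectionVars false
set_option linter.style.haveILetI false

namespace CfsgLib.SpecSq

open Cfsg Subgroup CfsgLib.BG CfsgLib.CIT.App
open scoped commutatorElement

variable {G : Type*} [Group G] [Finite G] {Γ : Type*} [Group Γ] [Finite Γ] {π : G →* Γ}
  {S : Subgroup Γ}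

theorem semireg_mul {L V : Subgroup G} (hL : Group.IsSolvable L) (hV : V ≠ ⊥) (hn : L ≤ 𝒩(V))
    (h : Semiregular V L) {a b : ℕ} (ha : a.Prime) (hb : b.Prime) (hab : a ≠ b)
    (da : a ∣ Nat.card L) (db : b ∣ Nat.card L) : ∃ g ∈ L, orderOf g = a * b := by
  obtain ⟨H, hH⟩ := Hall_exists {a, b} hL
  obtain ⟨⟨⟨z, hz⟩, h1⟩, h2⟩ := ne_bot_iff_exists_ne_one.1 (Frob.center_ne_bot_of_fpf hV
    (pHall_ne_bot hH ha (by simp) da) (hH.1.trans hn) fun x hx => h x (hH.1 hx))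
  have h3 : H ≤ 𝒞(zpowers z) := by
    rw [cent_zpowers]
    exact fun k hk => mem_cent1.2 (congrArg Subtype.val (mem_center_iff.1 h1 ⟨k, hk⟩))
  obtain ⟨r, hr, hd⟩ := exists_prime_dvd_orderOf (x := z) fun e => h2 (by ext; exact e)
  have h4 := zpowers_le.2 (hH.1 hz)
  rw [← Nat.card_zpowers] at hd
  rcases hH.2.1 r hr (hd.trans (cardSg (zpowers_le.2 hz))) with rfl | rfl
  · exact exists_mul_of_cent ha hb hab hd ((prime_dvd_pHall hH hb (by simp)).2 db) h3 h4 hH.1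
  · rw [mul_comm]
    exact exists_mul_of_cent hb ha hab.symm hd ((prime_dvd_pHall hH ha (by simp)).2 da) h3 h4 hH.1

/-- an element of `L` and an element of prime order centralising `L` -/
theorem hasOrd_mul_cent {L C : Subgroup G} (hc : C ≤ 𝒞(L)) {k e : ℕ} (h : ∃ g ∈ L, orderOf g = k)
    (he : e.Prime) (hd : e ∣ Nat.card C) (hk : k.Coprime e) : HasOrd G (k * e) :=
  hasOrd_of_cent (cents_symm hc) h (hasOrd_sub.1 (hasOrd_of_prime_dvd he hd)) hk

theorem top_norm_opOf (p : ℕ) : (⊤ : Subgroup G) ≤ 𝒩(opOf p π.ker) :=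
  norms_pcore _ (normalizer_eq_top π.ker).ge

namespace JP

theorem dvd (hS : JP S) {A : Subgroup G} (hA : S ≤ A.map π) {k : ℕ} (h : k ∣ 175560) :
    k ∣ Nat.card A := dvd_card_of_cover hA (hS.card ▸ h)

theorem hh (hS : JP S) (hU : UJ G) {p : ℕ} (hp : (p = 2 ∨ p = 3 ∨ p = 5) ∨ p = 7) {A W : Subgroup G}
    (hA : S ≤ A.map π) (hW : IsPiSubgroup {p} W) (hn : A ≤ 𝒩(W)) : S ≤ (A ⊓ 𝒞(W)).map π := by
  obtain ⟨t, Q, x, h1, h2, -, h3, h4, h5, h6, h7, h8, h9⟩ := hS.frob p hp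
  have hp' : p.Prime := by rcases hp with (rfl | rfl | rfl) | rfl <;> norm_num
  exact hS.simp.hh (a := 0) hp' h1 h2 hA hW hn h4 h5 h6 h7 (by simpa using h8) (by simpa using h9)
    (hU.sq hp') h3

theorem act7 (hS : JP S) (hU : UJ G) {p : ℕ} (hp : p = 11 ∨ p = 19) {A W : Subgroup G}
    (hA : S ≤ A.map π) (hW : IsPiSubgroup {p} W) (hW1 : W ≠ ⊥) (hn : A ≤ 𝒩(W)) :
    ∃ X, PnElem 7 1 A X ∧ W ⊓ 𝒞(X) ≠ ⊥ := by
  obtain ⟨t, Q, x, -, -, h2, h3, h4, h5, h6, h7, h8, h9⟩ := hS.frob 7 (.inr rfl)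
  obtain rfl := h2 rfl
  refine hS.simp.act1 (a := 0) (Rho.prime (.inr hp)) (by norm_num) (by omega) (by norm_num)
    (by omega) hA hW hW1 hn h4 h5 h6 h7 (by simpa using h8) (by simpa using h9)
    (hU.sq (by norm_num)) ?_
  rintro ⟨k, hk⟩
  rcases k with _ | k
  · omega
  · exact h3 1 (k + 1) le_rfl (by omega) hk

/-- with a four-group centralising `S` the kernel has no large primes -/
theorem no_rho (hS : JP S) (hU : UJ G) (hπ : Function.Surjective π) (hK : Group.IsSolvable π.ker)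
    {E' : Subgroup Γ} (hE : PnElem 2 2 𝒞(S) E') {r : ℕ} (hr : Rho r) : ¬ r ∣ Nat.card π.ker := by
  intro hd
  obtain ⟨P, hP⟩ := Sylow_exists hr.prime π.ker
  have hP1 := Sylow_ne_bot hr.prime hP hd
  obtain ⟨Q, h1, h2, rfl, h3⟩ := lift_cover Nat.prime_two (hE.pgroup Nat.prime_two)
    (cover_of_Hall hπ hK hP E')
  have h4 := hS.hh hU (.inl (.inl rfl)) (h3 S (cover_of_Hall hπ hK hP S)
    (cents_norm (cents_symm hE.le))) h2 inf_le_right
  obtain ⟨E, h5⟩ := exists_pn2 Nat.prime_two (hU.sq Nat.prime_two) (hE.card ▸ card_map_dvd Q π)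
  have h6 : 𝒩(P) ⊓ 𝒩(Q) ⊓ 𝒞(Q) ≤ 𝒩(P) := inf_le_left.trans inf_le_left
  have key : ∀ (b : ℕ) (X : Subgroup G), Rho b → r ≠ b → b ∣ Nat.card X → X ≤ 𝒩(P) ⊓ 𝒩(Q) ⊓ 𝒞(Q) →
      P ⊓ 𝒞(X) = ⊥ := fun b X hb hrb h7 h8 => cent_eq_bot_of_sq hr.prime Nat.prime_two hb.prime (by omega) hrb
      (by omega) (hU.no (by
        rcases hr with rfl | rfl | rfl <;> rcases hb with rfl | rfl | rfl <;> decide)) hP.2.1 h5 h7
      (h5.le.trans h1)
      (h5.le.trans (cents_symm (h8.trans inf_le_right)))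
  rcases hr with rfl | hr
  · have h7 := key 11 _ (by decide) (by norm_num)
      (hS.dvd (hS.hh hU (.inr rfl) h4 hP.2.1 h6) (by norm_num)) inf_le_left
    exact hP1 ((inf_eq_left.2 (cents_symm inf_le_right)).symm.trans h7)
  · obtain ⟨X, hX, h7⟩ := hS.act7 hU hr h4 hP.2.1 hP1 h6
    exact h7 (key 7 X (by decide) (by omega) hX.self.dvd1 hX.le)

theorem cover_ker (hS : JP S) (hU : UJ G) (hπ : Function.Surjective π)
    (hK : Group.IsSolvable π.ker) (h : ∀ p, p = 11 ∨ p = 19 → opOf p π.ker ≠ ⊥ →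
      S ≤ (𝒞(opOf p π.ker)).map π) : S ≤ (𝒞(π.ker)).map π := by
  have h1 := cent_cover hS.der (A := ⊤) (by rw [map_top_of_surjective π hπ]; exact le_top) hK
    (normalizer_eq_top π.ker).ge fun p hp h1 B _ h2 => by
      have h3 := hU.cls hp ((pgp_pdiv (pcore_pgroup _ _) h1).2.trans (card_subgroup_dvd_card _))
      rcases or_assoc.2 h3 with h4 | h4
      · exact hS.hh hU h4 h2 (pcore_pgroup _ _) (le_top.trans (top_norm_opOf p))
      · exact cover_sol hK hS.der (norms_cent (top_norm_opOf p)) h2 (h p h4 h1)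
  rwa [top_inf_eq] at h1

theorem ker_eq_bot {T : Subgroup Γ} (hS : JP S) (hT : JP T) (hc : S ≤ 𝒞(T)) (hU : UJ G)
    (hπ : Function.Surjective π) (hK : Group.IsSolvable π.ker)
    (h : ∀ r, Rho r → ¬ r ∣ Nat.card π.ker) : π.ker = ⊥ := by
  have key : ∀ {R : Subgroup Γ}, JP R → R ≤ (𝒞(π.ker)).map π := fun hR =>
    hR.cover_ker hU hπ hK fun p hp h1 => absurd
      ((pgp_pdiv (pcore_pgroup _ _) h1).2.trans (cardSg (pcore_sub _ _))) (h p (.inr hp))
  obtain ⟨s, hs, e⟩ := exists_mul_of_cent (a := 7) (b := 11) (by norm_num) (by norm_num)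
    (by norm_num) (by rw [hT.card]; norm_num) (by rw [hS.card]; norm_num) hc (key hT) (key hS)
  by_contra hne
  obtain ⟨a, ha, hd⟩ := Nat.exists_prime_and_dvd (cardG_gt1.2 hne).ne'
  have h1 := (hU.cls ha (hd.trans (card_subgroup_dvd_card _))).resolve_right fun h1 => h a h1 hd
  exact hU.no (by rcases h1 with rfl | rfl | rfl <;> decide)
    (hasOrd_mul_cent (cents_symm le_rfl) (exists_of_cover hs e.symm.dvd) ha hd
      (by rcases h1 with rfl | rfl | rfl <;> norm_num))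

variable {p q : ℕ}

theorem fix (hS : JP S) (hπ : Function.Surjective π) {V : Subgroup G} (hn : ⊤ ≤ 𝒩(V))
    (hV : ¬ S ≤ (𝒞(V)).map π) {t : G} (h2 : t ^ 2 = 1) (h1 : π t ∈ S) (hne : π t ≠ 1) :
    V ⊓ 𝒞[t] ≠ ⊥ := fun hf => by
  have h3 : π t ∉ 𝒞(S) := fun h => hne (mem_bot.1 (hS.inf_cent ▸ mem_inf.2 ⟨h1, h⟩))
  rw [mem_cent_iff] at h3
  push Not at h3
  obtain ⟨s, hs, h4⟩ := h3
  obtain ⟨g, rfl⟩ := hπ s
  exact hV (hS.simp.cover (A := ⊤) (by rw [map_top_of_surjective π hπ]; exact le_top) (norms_cent hn)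
    (comm_mem_cent_of_inv (hn (mem_top g)) fun k hk => Frob.conj_eq_inv_of_fpf (hn (mem_top t)) hf
      (by rw [← pow_two, h2]; exact one_mem _) hk)
    (by rw [map_commutatorElement]; exact comm_mem hs h1)
    (by rwa [map_commutatorElement, Ne, commutatorElement_eq_one_iff_mul_comm]))

theorem cover_other (hS : JP S) (hU : UJ G) (hπ : Function.Surjective π)
    (hpq : p = 11 ∧ q = 19 ∨ p = 19 ∧ q = 11) {V Q B : Subgroup G} (hn : ⊤ ≤ 𝒩(V))
    (hVp : IsPiSubgroup {p} V) (hV : ¬ S ≤ (𝒞(V)).map π) (hQ : IsPiSubgroup {q} Q) (hQ1 : Q ≠ ⊥)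
    (hB : S ≤ B.map π) (hBQ : B ≤ 𝒩(Q)) : S ≤ (B ⊓ 𝒞(Q)).map π := by
  have hp : p.Prime := Rho.prime (by omega)
  have hq : q.Prime := Rho.prime (by omega)
  have h2 := Nat.prime_two
  obtain ⟨E', hE'⟩ := Sylow_exists h2 S
  have hc : Nat.card E' = 8 := by rw [card_Sylow h2 hE', hS.card]; decide +kernel
  obtain ⟨E₀, a1, a2, rfl, -⟩ := lift_cover h2 hE'.2.1 (hE'.1.trans hB)
  have a3 := abelem_two (hU.sq h2) a2
  obtain ⟨E, a4⟩ := abelem_splits h2 a3 (inf_le_right : π.ker ⊓ E₀ ≤ E₀)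
  have a5 : π.ker ⊓ E = ⊥ := by
    rw [← a4.TI, inf_assoc, inf_eq_right.2 a4.le_right]
  rw [← le_antisymm (map_mono a4.le_right) (map_le_of_sup π inf_le_left a4.sup_eq.ge)] at hc hE'
  rw [card_map_of_TI a5] at hc
  have a6 := abelemS a4.le_right a3
  have a7 : E ≤ 𝒩(Q) := (a4.le_right.trans a1).trans hBQ
  have a8 := pgp_coprime_of_ne hQ (abelem_pgroup h2 a6) (by omega)
  have line : ∀ X, PnElem 2 1 E X → Q ⊓ 𝒞(X) ≠ ⊥ → PnElem q 1 (Q ⊓ 𝒞(X)) (Q ⊓ 𝒞(X)) :=
    fun X hX h1 => line_of_no_sq hq (hU.sq hq) (pigroupS inf_le_left hQ) h1 fun A hA => by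
      have h3 := cent_eq_bot_of_sq hp hq h2 (by omega) (by omega) (by omega)
        (hU.no (by rcases hpq with ⟨rfl, rfl⟩ | ⟨rfl, rfl⟩ <;> decide)) hVp hA hX.self.dvd1
        (le_top.trans hn) (hA.le.trans inf_le_right)
      obtain ⟨t, b1, b2, rfl⟩ := hX.exists_gen h2
      have b3 := hX.le (mem_zpowers t)
      exact hS.fix hπ hn hV (b2 ▸ pow_orderOf_eq_one t) (hE'.1 (mem_map_of_mem π b3))
        (fun e => b1 (mem_bot.1 (a5 ▸ mem_inf.2 ⟨e, b3⟩))) (by rwa [cent_zpowers] at h3)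
  obtain ⟨F, b1, b2, b3⟩ : ∃ F, F ≤ E ∧ F.relIndex E = 2 ∧ Q ⊓ 𝒞(F) ≠ ⊥ := by
    by_contra hn
    push Not at hn
    haveI := a6.1
    exact hQ1 (le_bot_iff.1 (Coprime.le_of_forall_hyperplane h2 a6.2 (cardG_gt1.1 (by omega)) a7
      a8.symm fun F h3 h4 => (hn F h3 h4).le))
  have hF : PnElem 2 2 E F := ⟨b1, abelemS b1 a6, by have := Lagrange b1; rw [b2, hc] at this; omega⟩
  have b4 : ∀ X, PnElem 2 1 F X → Q ⊓ 𝒞(F) ≤ Q ⊓ 𝒞(X) := fun X hX => inf_le_inf_left _ (centS hX.le)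
  have b5 : Q ≤ Q ⊓ 𝒞(F) := gen_le h2 hF (b1.trans a7) (a8.coprime_dvd_right (cardSg b1))
    fun X hX => prime_meetG ((line X (hX.mono b1) (subG1_contra (b4 X hX) b3)).prime hq)
      (by rwa [inf_eq_right.2 (b4 X hX)])
  obtain ⟨X, hX⟩ := hF.exists_sub h2 one_le_two
  have b6 := (line X (hX.mono b1) (subG1_contra (b4 X hX) b3)).cyclic1 hq
  rw [le_antisymm inf_le_left (b5.trans (b4 X hX))] at b6
  exact (cover_der hS.der hB).trans (map_mono (le_inf (der_sub B) (T36.der1_cent_cyclic b6 hBQ)))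

theorem one_aux (hS : JP S) (hU : UJ G) (hπ : Function.Surjective π) (hK : Group.IsSolvable π.ker)
    (hpq : p = 11 ∧ q = 19 ∨ p = 19 ∧ q = 11) (hV1 : opOf p π.ker ≠ ⊥)
    (hV : ¬ S ≤ (𝒞(opOf p π.ker)).map π) {a b c : ℕ} (ha : a.Prime) (hb : b.Prime) (hc : c.Prime)
    (hab : a ≠ b) (hap : a ≠ p) (hbp : b ≠ p) (hc1 : c ∣ 175560) (hc2 : (a * b).Coprime c)
    (hno : ¬ HasOrd G (a * b * c)) (da : a ∣ Nat.card π.ker) (db : b ∣ Nat.card π.ker) : False := by
  have hp : p.Prime := Rho.prime (by omega)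
  have h2 := Nat.prime_two
  have hn := top_norm_opOf (π := π) p
  have hVp : IsPiSubgroup {p} (opOf p π.ker) := pcore_pgroup _ _
  generalize opOf p π.ker = V at *
  obtain ⟨L, hL⟩ := Hall_exists {p}ᶜ hK
  have hs := solvableS hL.1 hK
  have cls : ∀ t, t.Prime → t ∣ Nat.card L → (t = 2 ∨ t = 3 ∨ t = 5) ∨ t = 7 ∨ t = q := fun t ht h => by
    have h3 := hU.cls ht (h.trans (card_subgroup_dvd_card _))
    have h4 : t ≠ p := hL.2.1 t ht h
    omega
  have h1 := cent_cover hS.der (cover_of_Hall hπ hK hL S) hs le_rfl fun t ht h1 B h3 h4 => by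
    rcases or_assoc.2 (cls t ht ((pgp_pdiv (pcore_pgroup _ _) h1).2.trans
      (cardSg (pcore_sub _ _)))) with h5 | rfl
    · exact hS.hh hU h5 h4 (pcore_pgroup _ _) (norms_pcore _ h3)
    · exact hS.cover_other hU hπ hpq hn hVp hV (pcore_pgroup _ _) h1 h4 (norms_pcore _ h3)
  have h3 : Semiregular V L := semiregular_of_pnElem1 fun t X ht hX => by
    have h4 : 𝒩(L) ⊓ 𝒞(L) ≤ 𝒞(X) := inf_le_right.trans (centS hX.le)
    have h5 : t ≠ p := hL.2.1 t ht hX.dvd1
    rcases cls t ht hX.dvd1 with h6 | h6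
    · by_contra h7
      obtain ⟨Y, hY, h8⟩ := hS.act7 hU (p := p) (by omega) h1 (pigroupS inf_le_left hVp) h7
        (normsI (le_top.trans hn) (norm_of_le h4))
      exact hU.no (by rcases hpq with ⟨rfl, -⟩ | ⟨rfl, -⟩ <;> rcases h6 with rfl | rfl | rfl <;> decide)
        (hasOrd_three (inf_le_left.trans inf_le_right) inf_le_right (cents_symm (hY.le.trans h4)) hp
          ht (by norm_num) h5.symm (by omega) (by omega)
          (pgp_pdiv (pigroupS (inf_le_left.trans inf_le_left) hVp) h8).2 hX.self.dvd1 hY.self.dvd1)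
    · obtain ⟨E, hE⟩ := exists_pn2 h2 (hU.sq h2) (hS.dvd h1 (by norm_num))
      exact cent_eq_bot_of_sq hp h2 ht (by omega) h5.symm (by omega) (hU.no (by
        rcases hpq with ⟨rfl, rfl⟩ | ⟨rfl, rfl⟩ <;> rcases h6 with rfl | rfl <;> decide)) hVp hE
        hX.self.dvd1 (le_top.trans hn) (hE.le.trans h4)
  exact hno (hasOrd_mul_cent inf_le_right (semireg_mul hs hV1 (le_top.trans hn) h3 ha hb hab
    ((prime_dvd_pHall hL ha hap).2 da) ((prime_dvd_pHall hL hb hbp).2 db)) hc (hS.dvd h1 hc1) hc2)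

theorem one (hS : JP (⊤ : Subgroup Γ)) (hU : UJ G) (hL : LJ G) (hπ : Function.Surjective π)
    (hK : Group.IsSolvable π.ker) : False := by
  have key : ∀ a b : ℕ, a.Prime → b.Prime → (∃ m ∈ om, a * b ∣ m) →
      a * b ∉ [1, 2, 3, 5, 6, 7, 10, 11, 15, 19] → a ∣ Nat.card π.ker ∨ b ∣ Nat.card π.ker := by
    intro a b ha hb h1 h2
    by_contra hn
    push Not at hn
    obtain ⟨g, hg⟩ := (hL.has h1).map_of_coprime π (Nat.Coprime.mul_left
      (ha.coprime_iff_not_dvd.2 hn.1) (hb.coprime_iff_not_dvd.2 hn.2))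
    exact h2 (hg ▸ hS.ord g (mem_top g))
  have p2 := Nat.prime_two
  have p7 : Nat.Prime 7 := by norm_num
  have p11 : Nat.Prime 11 := by norm_num
  have p19 : Nat.Prime 19 := by norm_num
  have k1 := key 2 7 p2 p7 (by decide) (by decide)
  have k2 := key 2 11 p2 p11 (by decide) (by decide)
  have k3 := key 2 19 p2 p19 (by decide) (by decide)
  have k4 := key 7 11 p7 p11 (by decide) (by decide)
  have k5 := key 7 19 p7 p19 (by decide) (by decide)
  have k6 := key 11 19 p11 p19 (by decide) (by decide)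
  by_cases h : ∀ p, p = 11 ∨ p = 19 → opOf p π.ker ≠ ⊥ → ⊤ ≤ (𝒞(opOf p π.ker)).map π
  · have h1 := hS.cover_ker hU hπ hK h
    have h2 : ∀ k e : ℕ, e.Prime → e ∣ 175560 → k.Coprime e → (∀ m ∈ om, ¬ k * e ∣ m) →
        ¬ ∃ g ∈ π.ker, orderOf g = k := fun k e a1 a2 a3 a4 a5 =>
      hU.no a4 (hasOrd_mul_cent le_rfl a5 a1 (hS.dvd h1 a2) a3)
    have n1 := h2 (2 * 7) 11 p11 (by decide) (by decide) (by decide)
    have n2 := h2 (2 * 11) 7 p7 (by decide) (by decide) (by decide)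
    have n3 := h2 (2 * 19) 7 p7 (by decide) (by decide) (by decide)
    have n4 := h2 (7 * 11) 2 p2 (by decide) (by decide) (by decide)
    have n5 := h2 (7 * 19) 2 p2 (by decide) (by decide) (by decide)
    have n6 := h2 (11 * 19) 2 p2 (by decide) (by decide) (by decide)
    have t1 := three_primes_mem hK p2 p7 p11 (by decide) (by decide) (by decide)
    have t2 := three_primes_mem hK p2 p7 p19 (by decide) (by decide) (by decide)
    have t3 := three_primes_mem hK p2 p11 p19 (by decide) (by decide) (by decide)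
    have t4 := three_primes_mem hK p7 p11 p19 (by decide) (by decide) (by decide)
    by_cases d2 : 2 ∣ Nat.card π.ker
    · by_cases d7 : 7 ∣ Nat.card π.ker
      · by_cases d11 : 11 ∣ Nat.card π.ker
        · exact (t1 d2 d7 d11).elim n1 fun h => h.elim n2 n4
        · exact (t2 d2 d7 (k6.resolve_left d11)).elim n1 fun h => h.elim n3 n5
      · exact (t3 d2 (k4.resolve_left d7) (k5.resolve_left d7)).elim n2 fun h => h.elim n3 n6
    · exact (t4 (k1.resolve_left d2) (k2.resolve_left d2) (k3.resolve_left d2)).elim n4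
        fun h => h.elim n5 n6
  push Not at h
  obtain ⟨p, rfl | rfl, h1, h2⟩ := h
  · have t := @hS.one_aux _ _ _ _ _ _ _ _ 11 19 hU hπ hK (by simp) h1 h2
    have t1 := t p2 p7 p11 (by decide) (by decide) (by decide) (by decide) (by decide)
      (hU.no (by decide))
    have t2 := t p2 p19 p7 (by decide) (by decide) (by decide) (by decide) (by decide)
      (hU.no (by decide))
    have t3 := t p7 p19 p2 (by decide) (by decide) (by decide) (by decide) (by decide)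
      (hU.no (by decide))
    by_cases d2 : 2 ∣ Nat.card π.ker
    · exact k5.elim (t1 d2) (t2 d2)
    · exact t3 (k1.resolve_left d2) (k3.resolve_left d2)
  · have t := @hS.one_aux _ _ _ _ _ _ _ _ 19 11 hU hπ hK (by simp) h1 h2
    have t1 := t p2 p7 p11 (by decide) (by decide) (by decide) (by decide) (by decide)
      (hU.no (by decide))
    have t2 := t p2 p11 p7 (by decide) (by decide) (by decide) (by decide) (by decide)
      (hU.no (by decide))
    have t3 := t p7 p11 p2 (by decide) (by decide) (by decide) (by decide) (by decide)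
      (hU.no (by decide))
    by_cases d2 : 2 ∣ Nat.card π.ker
    · exact k4.elim (t1 d2) (t2 d2)
    · exact t3 (k1.resolve_left d2) (k2.resolve_left d2)

end JP

end CfsgLib.SpecSq
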