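import Mathlib
import Cfsg.Agent.Lib.SpecSq.JC

/-!
Recognition of the direct square of the first Janko group by its element orders.
-/

set_option autoImplicit false
set_option linter.unusedSectionVars false
set_option linter.style.haveILetI false

namespace CfsgLib.SpecSq

open Cfsg Subgroup CfsgLib.BG CfsgLib.CIT.App CfsgLib.Comp
open scoped commutatorElement

variable {G : Type*} [Group G] [Finite G] {Γ : Type*} [Group Γ] [Finite Γ] {π : G →* Γ}
  {S T L : Subgroup Γ}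

theorem eq_bot_of_cents (hF : fittingSubgroup Γ = ⊥) {X : Subgroup Γ}
    (h : ∀ L, IsComponent L → X ≤ 𝒞(L)) : X = ⊥ := by
  rw [eq_bot_iff, ← hF]
  refine le_trans (cents_symm ?_) centralizer_fstar_le_fit
  rw [fstar_def, hF, sup_bot_eq]
  exact layer_le_iff.2 fun L hL => cents_symm (h L hL)

theorem sol_norm_Sylow (hT : IsSylowOf 2 T ⊤) : Group.IsSolvable 𝒩(T) := by
  haveI := pgp_sol hT.2.1
  haveI : Group.IsSolvable (𝒩(T) ⧸ T.subgroupOf 𝒩(T)) := FT.odd_order_solvable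
    (Nat.not_even_iff_odd.1 fun h => Sylow_index Nat.prime_two (pHall_subl (normG T) le_top hT)
      (even_iff_two_dvd.1 h))
  exact Group.isSolvable_of_ker_le_range (inclusion (normG T))
    (QuotientGroup.mk' (T.subgroupOf 𝒩(T))) (by rw [QuotientGroup.ker_mk', inclusion_range])

theorem pgp_zpowers {p : ℕ} (hp : p.Prime) {x : Γ} (h : x ^ p = 1) : IsPiSubgroup {p} (zpowers x) :=
  abelem_pgroup hp (abelem_zpowers h)

theorem hasOrd_of_Sylow (hπ : Function.Surjective π) {p k : ℕ} (hp : p.Prime) {P H B : Subgroup Γ}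
    (hP : IsSylowOf p P H) (hB : P ≤ B) {g : G} (hg : orderOf g = k) (h1 : π g ∈ H)
    (h2 : π g ^ p = 1) : HasOrd (B.comap π) k :=
  let ⟨_, _, h3⟩ := Sylow_Jsub hp hP (zpowers_le.2 h1) (pgp_zpowers hp h2)
  hg ▸ hasOrd_comap hπ (h3.trans hB)

theorem UJ.crit (hU : UJ G) (hK : Group.IsSolvable π.ker) {B : Subgroup Γ} (hB : Group.IsSolvable B)
    {a : ℕ} (ha : a = 2 ∨ a = 5) (e1 : HasOrd (B.comap π) (a * 7)) (e2 : HasOrd (B.comap π) (a * 11))
    (e3 : HasOrd (B.comap π) (a * 19)) (e4 : HasOrd (B.comap π) (7 * 11))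
    (e5 : HasOrd (B.comap π) (7 * 19)) (e6 : HasOrd (B.comap π) (11 * 19)) : False := by
  have key : ∀ k, (∀ m ∈ om, ¬ k ∣ m) → ¬ HasOrd (B.comap π) k := fun k hk h =>
    hU.no hk h.of_subgroup
  rcases ha with rfl | rfl <;>
  exact not_isSolvable_of_four' (by norm_num) (by norm_num) (by norm_num) (by norm_num)
    (by norm_num) (by norm_num) (by norm_num) (by norm_num) (by norm_num) (by norm_num)
    e1 e2 e3 e4 e5 e6 (key _ (by decide)) (key _ (by decide)) (key _ (by decide))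
    (key _ (by decide)) (comap_sol π hK hB)

theorem all60 (hU : UJ G) (hL : LJ G) (hπ : Function.Surjective π) (hK : Group.IsSolvable π.ker)
    (hF : fittingSubgroup Γ = ⊥) (h : ∀ L : Subgroup Γ, IsComponent L → Nat.card L = 60) : False := by
  have h2 := Nat.prime_two
  haveI := Fact.mk h2
  haveI : (layer Γ).Normal := layer_normal
  have hE : IsPiSubgroup {2, 3, 5} (layer Γ) := pigroupS (layer_le_iff.2 fun L hL =>
    pcore_max ⟨comp_le_layer hL, layer_le_normalizer_comp hL⟩ fun p hp hd => by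
      rw [h L hL] at hd
      have := Nat.le_of_dvd (by norm_num) hd
      interval_cases p <;> simp_all (config := { decide := true })) (pcore_pgroup _ _)
  obtain ⟨T⟩ : Nonempty (Sylow 2 Γ) := inferInstance
  have hT := isSylowOf_top h2 T
  have h1 : (T : Subgroup Γ) ≤ layer Γ := Abel2.sylow_le_of_centralizer_eq_bot _
    (eq_bot_of_cents hF fun L hL => centS (comp_le_layer hL)) (by
      haveI := Core.pPrimeCore_characteristic 2 (layer Γ)
      rw [← map_eq_bot_iff_of_injective _ (layer Γ).subtype_injective, eq_bot_iff, ← hF]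
      refine le_fit_of_solvable_of_isSubnormal_of_le_fstar
        (ConjAct.normal_of_characteristic_of_normal).isSubnormal (FT.odd_subgroup_solvable ?_)
        ((map_subtype_le _).trans layer_le_fstar)
      rw [card_map_of_injective (layer Γ).subtype_injective]
      exact Nat.coprime_two_right.1 (Core.coprime_card_pPrimeCore 2 _)) T
    (abelem_two ((hU.of_surj π hπ).sq h2) hT.2.1).1
  have hT' := pHall_subl h1 le_top hT
  have key : ∀ k, (∃ m ∈ om, k ∣ m) → k ∣ 2 * 1463 → HasOrd ((𝒩((T : Subgroup Γ))).comap π) k := by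
    intro k a1 a2
    obtain ⟨g, rfl⟩ := hL.has a1
    have a3 : π g ^ (2 * 1463) = 1 := orderOf_dvd_iff_pow_eq_one.1 ((orderOf_map_dvd π g).trans a2)
    have a4 := pgp_zpowers h2 (x := π g ^ 1463) (by rw [← pow_mul, mul_comm, a3])
    obtain ⟨y, -, a6⟩ := Sylow_Jsub h2 hT le_top a4
    obtain ⟨R, b1, b2, b3⟩ := coprime_Sylow_subset h2 (A := zpowers (π g ^ 2)) (M := layer Γ)
      (le_top.trans (normalizer_eq_top _).ge) (Nat.coprime_of_dvd fun p hp c1 c2 => by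
        have c3 := c2.trans (Nat.card_zpowers (π g ^ 2) ▸
          orderOf_dvd_of_pow_eq_one (n := 1463) (by rw [← pow_mul, a3]))
        rcases hE p hp c1 with rfl | rfl | rfl <;> omega)
      (.inl (abelian_sol inferInstance))
      ((cj_le_iff_of_mem_norm ((normalizer_eq_top _).ge (mem_top y))).1 (a6.trans h1)) a4
      (zpowers_le.2 (cent_sub _ (by
        rw [cent_zpowers]
        exact mem_cent1.2 ((Commute.refl _).pow_pow _ _))))
    obtain ⟨x, -, e⟩ := Sylow_trans h2 b1 hT'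
    refine hasOrd_comap hπ (γ := x) ?_
    rw [e, ← cj_norm, cj_le_cj, zpowers_le]
    have a5 : π g = (π g ^ 1463) * ((π g ^ 2) ^ 731)⁻¹ := by group
    rw [a5]
    exact mul_mem (normG R (b3 (mem_zpowers _))) (inv_mem (pow_mem (b2 (mem_zpowers _)) _))
  exact hU.crit hK (sol_norm_Sylow hT) (.inl rfl) (key _ (by decide) (by decide))
    (key _ (by decide) (by decide)) (key _ (by decide) (by decide)) (key _ (by decide) (by decide))
    (key _ (by decide) (by decide)) (key _ (by decide) (by decide))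

theorem four (hF : fittingSubgroup Γ = ⊥) (hU : UJ Γ) {A B C : Subgroup Γ} (hS : IsComponent S)
    (hA : IsComponent A) (hB : IsComponent B) (hC : IsComponent C) {r : ℕ} (hr : Rho r)
    (hd : r ∣ Nat.card S) (h1 : A ≠ B) (h2 : A ≠ C) (h3 : B ≠ C) (h4 : A ≠ S) (h5 : B ≠ S)
    (h6 : C ≠ S) : False := by
  have d := fun L h => (comp_cases hF hU (L := L) h).1.d60
  have c := @comp_le_centralizer_of_ne Γ _
  exact hU.no (by rcases hr with rfl | rfl | rfl <;> decide)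
    (hasOrd_of_cent (A := 𝒞(C) ⊓ 𝒞(S)) (B := C ⊔ S) (centsY inf_le_left inf_le_right)
      (exists_mul_of_cent Nat.prime_two Nat.prime_three (by norm_num)
        (Dvd.dvd.trans (by norm_num) (d A hA)) (Dvd.dvd.trans (by norm_num) (d B hB))
        (c hB hA h1.symm) (le_inf (c hA hC h2) (c hA hS h4)) (le_inf (c hB hC h3) (c hB hS h5)))
      (exists_mul_of_cent Nat.prime_five hr.prime (by omega) (Dvd.dvd.trans (by norm_num) (d C hC))
        hd (c hS hC h6.symm) le_sup_left le_sup_right)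
      (by rcases hr with rfl | rfl | rfl <;> norm_num))

theorem cj_pow_ne {y : Γ} (h : y ∉ 𝒩(L)) (i : ℕ) {k : ℕ} (hk : (orderOf y).Coprime k) :
    cj (y ^ i) L ≠ cj (y ^ (i + k)) L := fun e => by
  rw [pow_add, cj_mul, cj_inj] at e
  exact h (mem_of_pow_mem (mem_norm_iff.2 e.symm) hk)

section
variable (hF : fittingSubgroup Γ = ⊥) (hU : UJ Γ) (hS : IsComponent S) {r : ℕ} (hr : Rho r)
  (hd : r ∣ Nat.card S)
include hF hU hS hr hd

theorem mem_norm_of_six {y : Γ} (hy : (orderOf y).Coprime 6) (hL : IsComponent L) : y ∈ 𝒩(L) := by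
  have c1 := Nat.coprime_one_right (orderOf y)
  have c2 : (orderOf y).Coprime 2 := hy.coprime_dvd_right (by norm_num)
  have c3 : (orderOf y).Coprime 3 := hy.coprime_dvd_right (by norm_num)
  have c := fun L (h : IsComponent L) (i : ℕ) => comp_map_conj h (y ^ i)
  have h1 : y ∈ 𝒩(S) := by
    by_contra h
    have h0 : cj (y ^ 0) S = S := by rw [pow_zero, cj_one]
    exact four hF hU hS (c S hS 1) (c S hS 2) (c S hS 3) hr hd (cj_pow_ne h 1 c1) (cj_pow_ne h 1 c2)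
      (cj_pow_ne h 2 c1) (fun e => cj_pow_ne h 0 c1 (h0.trans (Eq.symm e)))
      (fun e => cj_pow_ne h 0 c2 (h0.trans (Eq.symm e)))
      (fun e => cj_pow_ne h 0 c3 (h0.trans (Eq.symm e)))
  by_contra h
  have h2 : ∀ i, cj (y ^ i) L ≠ S := fun i e => h (by
    rwa [cj_injective _ (e.trans (cj_eq_of_mem_norm (pow_mem h1 i)).symm)])
  exact four hF hU hS (c L hL 0) (c L hL 1) (c L hL 2) hr hd (cj_pow_ne h 0 c1) (cj_pow_ne h 0 c2)
    (cj_pow_ne h 1 c1) (h2 0) (h2 1) (h2 2)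

theorem mem_sup_of_six {y : Γ} (hy : (orderOf y).Coprime 6) (hL : IsComponent L) : y ∈ L ⊔ 𝒞(L) :=
  mem_of_pow_mem ((comp_cases hF hU hL).1.out y (mem_norm_of_six hF hU hS hr hd hy hL))
    (hy.coprime_dvd_right (by norm_num))

end

theorem five_line (hL : L ⊓ 𝒞(L) = ⊥) (h5 : 5 ∣ Nat.card L) (hc : Nat.card L ∣ 660)
    (hno : ¬ HasOrd Γ (11 ^ 2)) {P : Subgroup Γ} (hP : IsSylowOf 11 P ⊤) (h : P ≤ L ⊔ 𝒞(L)) :
    ∃ X, PnElem 5 1 (L ⊓ 𝒩(P)) X := by
  have hp : Nat.Prime 11 := by norm_num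
  haveI := Fact.mk hp
  have h1 : P ≤ 𝒩(L) := h.trans (sup_le (normG L) (cent_sub L))
  have hR := Hall_setI_normal ⟨normG L, le_rfl⟩ (pHall_subl h1 le_top hP)
  have h2 : L ⊓ 𝒩(P ⊓ L) ≤ L ⊓ 𝒩(P) := fun b hb => ⟨hb.1, mem_norm_of_cj_le (cj_le_iff.2 fun g hg => by
    obtain ⟨l, hl, c, hc, e, h3⟩ := decomp hL (h hg)
    have h4 : l ∈ P ⊓ L := zpowers_le.1 (norm_sub_pHall hR
      (pgp_zpowers hp (h3 _ (pow_eq_one_of_pgp hp hno hP.2.1 hg)).1) (zpowers_le.2 hl)
      (zpowers_le.2 (by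
        rw [eq_mul_inv_of_mul_eq e]
        exact mul_mem (normsGI le_rfl h1 hg) (inv_mem (cent_sub _ (centS inf_le_right hc))))))
    have h6 : b * g * b⁻¹ = b * l * b⁻¹ * (l⁻¹ * g) := by
      rw [← e, inv_mul_cancel_left, mul_assoc _ b⁻¹, mem_cent_iff.1 hc _ (inv_mem hb.1)]; group
    rw [h6]
    exact mul_mem (conj_mem_of_mem_norm hb.2 h4).1 (mul_mem (inv_mem h4.1) hg))⟩
  obtain ⟨R, e⟩ := exists_sylow_map hp hR
  have h3 : (𝒩((R : Subgroup L))).map L.subtype ≤ L ⊓ 𝒩(P ⊓ L) :=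
    le_inf (map_subtype_le _) (e ▸ le_normalizer_map _)
  refine exists_pnElem1 Nat.prime_five (Dvd.dvd.trans ?_ (cardSg (h3.trans h2)))
  rw [card_map_of_injective L.subtype_injective]
  rw [← card_mul_index 𝒩((R : Subgroup L))] at h5
  refine ((Nat.Prime.dvd_mul Nat.prime_five).1 h5).resolve_right fun h6 => ?_
  have h7 := card_sylow_modEq_one 11 L
  rw [R.card_eq_index_normalizer] at h7
  have h8 := (index_dvd_card 𝒩((R : Subgroup L))).trans hc
  exact (by decide +kernel : ∀ n < 661, n ∣ 660 → 5 ∣ n → ¬ n ≡ 1 [MOD 11]) _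
    (Nat.lt_succ_of_le (Nat.le_of_dvd (by norm_num) h8)) h8 h6 h7

theorem some660 (hU : UJ G) (hL : LJ G) (hπ : Function.Surjective π) (hK : Group.IsSolvable π.ker)
    (hF : fittingSubgroup Γ = ⊥) (h : ∀ L : Subgroup Γ, IsComponent L → Nat.card L ∣ 660)
    (hS : IsComponent S) (hc : Nat.card S = 660) (h55 : ¬ HasOrd S 55) : False := by
  have hU' := hU.of_surj π hπ
  have p5 := Nat.prime_five
  have p7 : Nat.Prime 7 := by norm_num
  have p11 : Nat.Prime 11 := by norm_num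
  have p19 : Nat.Prime 19 := by norm_num
  have cp := fun L h => (comp_cases hF hU' (L := L) h).1
  have h1 := fun (y : Γ) hy L hL => mem_sup_of_six hF hU' hS (r := 11) (by decide)
    (by rw [hc]; norm_num) (y := y) hy (L := L) hL
  have co : ∀ {y : Γ} {k m : ℕ}, y ^ k = 1 → k.Coprime m → (orderOf y).Coprime m := fun e c =>
    c.coprime_dvd_left (orderOf_dvd_of_pow_eq_one e)
  have h2 : ∀ y : Γ, y ^ 133 = 1 → y = 1 := fun y hy => zpowers_eq_bot.1 (eq_bot_of_cents hF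
    fun L hL => zpowers_le.2 (mem_cent_of_not_dvd (cp L hL).inf_cent
      (h1 y (co hy (by norm_num)) L hL) ((co hy (by norm_num)).coprime_dvd_right (h L hL))))
  have h3 : ∀ (g : G) (a : ℕ), orderOf g ∣ a * 133 → π g ^ a = 1 := fun g a hg => h2 _ (by
    rw [← pow_mul, ← map_pow, orderOf_dvd_iff_pow_eq_one.1 hg, map_one])
  have h4 : ∀ r, r = 7 ∨ r = 19 → r ∣ Nat.card π.ker := fun r hr => by
    obtain ⟨g, hg⟩ := hL.has (k := r) (by rcases hr with rfl | rfl <;> decide)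
    exact hg ▸ order_dvdG ((pow_one _).symm.trans (h3 g 1 (by
      rw [hg]; rcases hr with rfl | rfl <;> norm_num)))
  obtain ⟨P, hP⟩ := Sylow_exists p11 (⊤ : Subgroup Γ)
  have hP1 := Sylow_ne_bot p11 hP (Dvd.dvd.trans (by rw [hc]; norm_num) (cardSg (H := S) le_top))
  have h5 : ∀ L, IsComponent L → ∃ X, PnElem 5 1 (L ⊓ 𝒩(P)) X := fun L hL =>
    five_line (cp L hL).inf_cent (Dvd.dvd.trans (by norm_num) (cp L hL).d60) (h L hL) (hU'.sq p11) hP
      fun y hy => h1 y (co (pow_eq_one_of_pgp p11 (hU'.sq p11) hP.2.1 hy) (by norm_num)) L hL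
  have key : ∀ E, IsPiSubgroup {5} E → E ≤ 𝒩(P) → HasOrd ((P ⊔ E).comap π) (5 * 7) →
      HasOrd ((P ⊔ E).comap π) (5 * 11) → HasOrd ((P ⊔ E).comap π) (5 * 19) → False := by
    intro E a1 a2 a3 a4 a5
    have a6 : ∀ k, (∃ m ∈ om, k ∣ m) → k ∣ 11 * 133 → HasOrd ((P ⊔ E).comap π) k := fun k b1 b2 =>
      let ⟨g, hg⟩ := hL.has b1
      hasOrd_of_Sylow hπ p11 hP le_sup_left hg (mem_top _) (h3 g 11 (hg ▸ b2))
    exact hU.crit hK (solvableY (.inr a2) (pgp_sol hP.2.1) (pgp_sol a1)) (.inr rfl) a3 a4 a5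
      (a6 _ (by decide) (by decide)) (a6 _ (by decide) (by decide)) (a6 _ (by decide) (by decide))
  obtain ⟨X, hX⟩ := h5 S hS
  by_cases h6 : ∀ L : Subgroup Γ, IsComponent L → L = S
  · have h7 : ∀ y : Γ, y ^ 55 = 1 → y ∈ S := fun y hy => by
      have := h1 y (co hy (by norm_num)) S hS
      rwa [eq_bot_of_cents hF (X := 𝒞(S)) fun L hL => (h6 L hL).symm ▸ le_rfl, sup_bot_eq] at this
    have h8 : IsSylowOf 5 X S := Sylow_of_card p5 (hX.le.trans inf_le_left) (by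
      rw [hX.card1, hc]; decide +kernel)
    have h9 : ∀ (g : G) (k : ℕ), orderOf g = k → π g ^ 5 = 1 → HasOrd ((P ⊔ X).comap π) k :=
      fun g k a1 a2 => hasOrd_of_Sylow hπ p5 h8 le_sup_right a1
        (h7 _ (by rw [show 55 = 5 * 11 from rfl, pow_mul, a2, one_pow])) a2
    obtain ⟨g1, e1⟩ := hL.has (k := 5 * 7) (by decide)
    obtain ⟨g2, e2⟩ := hL.has (k := 5 * 11) (by decide)
    obtain ⟨g3, e3⟩ := hL.has (k := 5 * 19) (by decide)
    refine key X (hX.pgroup p5) (hX.le.trans inf_le_right) (h9 g1 _ e1 (h3 _ _ (by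
      rw [e1]; norm_num))) ?_
      (h9 g3 _ e3 (h3 _ _ (by rw [e3]; norm_num)))
    have a1 : orderOf (π g2) ∣ 55 := (orderOf_map_dvd π g2).trans e2.dvd
    have a2 : orderOf (π g2) ≠ 55 := fun e =>
      h55 (hasOrd_sub.2 ⟨_, h7 _ (orderOf_dvd_iff_pow_eq_one.1 a1), e⟩)
    rcases (by decide : ∀ n < 56, n ∣ 55 → n ≠ 55 → n ∣ 5 ∨ n ∣ 11) _
      (Nat.lt_succ_of_le (Nat.le_of_dvd (by norm_num) a1)) a1 a2 with a3 | a3
    · exact h9 g2 _ e2 (orderOf_dvd_iff_pow_eq_one.1 a3)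
    · exact hasOrd_of_Sylow hπ p11 hP le_sup_left e2 (mem_top _) (orderOf_dvd_iff_pow_eq_one.1 a3)
  push Not at h6
  obtain ⟨T, hT, hne⟩ := h6
  obtain ⟨Y, hY⟩ := h5 T hT
  have a1 := (hY.le.trans inf_le_left).trans (comp_le_centralizer_of_ne hT hS hne)
  have hE := p1Elem_sup p5 (hX.mono inf_le_right) (hY.mono inf_le_right)
    (cents_symm (centsS (hX.le.trans inf_le_left) a1)) fun e => hX.ne_bot1 p5
      (le_bot_iff.1 ((cp S hS).inf_cent ▸ le_inf (hX.le.trans inf_le_left) (e ▸ a1)))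
  have hE' := hE.of_le (le_sup_right (a := P))
  refine key _ (hE.pgroup p5) hE.le
    (hasOrd_comap_of_sq hπ hK p5 p7 (by norm_num) (hU.sq p5) (h4 7 (by simp)) hE') ?_
    (hasOrd_comap_of_sq hπ hK p5 p19 (by norm_num) (hU.sq p5) (h4 19 (by simp)) hE')
  obtain ⟨γ, a2, a3⟩ := exists_mul_of_sq p5 p11 (by norm_num) hE hP.2.1 hP1 hE.le le_sup_right
    le_sup_left
  rw [← map_comap_eq_self_of_surjective hπ (P ⊔ _)] at a2
  exact hasOrd_sub.2 (exists_of_cover a2 a3.symm.dvd)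

theorem JP.no_swap (h4 : ¬ HasOrd Γ (2 ^ 2)) (h1 : JP S) (h2 : JP T) (hc : S ≤ 𝒞(T))
    (hC : 𝒞(S) ⊓ 𝒞(T) = ⊥) {v : Γ} (e1 : cj v S = T) (e2 : cj v T = S) : False := by
  obtain ⟨a, ha, b, hb, e⟩ := mem_sup_of hc hC (x := v * v)
    (h1.out1 (mem_norm_iff.2 (by rw [cj_mul, e1, e2])))
    (h2.out1 (mem_norm_iff.2 (by rw [cj_mul, e2, e1])))
  obtain ⟨w, hw, hwo⟩ := hasOrd_sub.1 (hasOrd_of_prime_dvd (G := S) Nat.prime_two
    (by rw [h1.card]; norm_num))
  have hx : w * a⁻¹ ∈ S := mul_mem hw (inv_mem ha)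
  have hx' : v * (w * a⁻¹) * v⁻¹ ∈ T := e1 ▸ conj_mem_cj.2 hx
  have e5 : (w * a⁻¹ * v) ^ 2 = w * (v * (w * a⁻¹) * v⁻¹ * b) := by
    calc (w * a⁻¹ * v) ^ 2 = w * a⁻¹ * (v * (w * a⁻¹) * v⁻¹) * (v * v) := by rw [pow_two]; group
      _ = w * a⁻¹ * (v * (w * a⁻¹) * v⁻¹ * a) * b := by rw [← e]; group
      _ = _ := by rw [← cents_iff.1 hc a ha _ hx']; group
  have key : ∀ k, ((w * a⁻¹ * v) ^ 2) ^ k = 1 → 2 ∣ k := fun k hk => by
    have hz := mul_mem hx' hb
    rw [e5, Commute.mul_pow (cents_iff.1 hc w hw _ hz)] at hk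
    rw [← hwo, orderOf_dvd_iff_pow_eq_one, ← mem_bot, ← h1.inf_cent]
    exact ⟨pow_mem hw k, eq_inv_of_mul_eq_one_left hk ▸
      (𝒞(S)).inv_mem (pow_mem (cents_symm hc hz) k)⟩
  refine h4 (HasOrd.of_dvd ⟨w * a⁻¹ * v, rfl⟩ ?_)
  obtain ⟨k, hk⟩ := key (orderOf (w * a⁻¹ * v))
    (by rw [← pow_mul, mul_comm, pow_mul, pow_orderOf_eq_one, one_pow])
  have h4 := key k (by rw [← pow_mul, ← hk, pow_orderOf_eq_one])
  omega

theorem JP.other (hF : fittingSubgroup Γ = ⊥) (hU : UJ Γ) (h : HasOrd Γ 133) (hS : IsComponent S)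
    (hJ : JP S) (hT : IsComponent T) (hne : T ≠ S) : JP T ∧ Nonempty (T ≃* Spor.J1) := by
  have h1 := fun (y : Γ) hy L hL => mem_sup_of_six hF hU hS (r := 7) (by decide)
    (by rw [hJ.card]; norm_num) (y := y) hy (L := L) hL
  obtain ⟨g, hg⟩ := h
  obtain ⟨s, hs, c, hc, e, h2⟩ := decomp hJ.inf_cent (h1 g (by rw [hg]; norm_num) S hS)
  have h3 := orderOf_dvd_of_pow_eq_one (h2 133 (hg ▸ pow_orderOf_eq_one g)).2
  have h4 : c ≠ 1 := fun e' => by
    rw [e', mul_one] at e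
    exact absurd (hg ▸ e ▸ hJ.ord s hs) (by decide)
  obtain ⟨cp, h5⟩ := comp_cases hF hU hT
  refine (or_assoc.2 h5).resolve_left fun h6 => ?_
  have h7 : Nat.card T ∣ 660 := by rcases h6 with h6 | ⟨h6, -⟩ <;> rw [h6] <;> norm_num
  have h8 := mem_cent_of_not_dvd cp.inf_cent
    (h1 c (Nat.Coprime.coprime_dvd_left h3 (by norm_num)) T hT)
    ((Nat.Coprime.coprime_dvd_left h3 (by norm_num)).coprime_dvd_right h7)
  obtain ⟨r, hr, hd⟩ := exists_prime_dvd_orderOf h4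
  have h9 : r = 7 ∨ r = 19 := by
    have := (Nat.Prime.dvd_mul hr (m := 7) (n := 19)).1 (hd.trans h3)
    rwa [Nat.prime_dvd_prime_iff_eq hr (by norm_num), Nat.prime_dvd_prime_iff_eq hr (by norm_num)]
      at this
  exact hU.no (by rcases h9 with rfl | rfl <;> decide) (hasOrd_three (zpowers_le.2 h8)
    (zpowers_le.2 hc) (comp_le_centralizer_of_ne hT hS hne) hr Nat.prime_two (c := 11) (by norm_num)
    (by omega) (by omega) (by norm_num) (by rwa [Nat.card_zpowers])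
    (Dvd.dvd.trans (by norm_num) cp.d60) (by rw [hJ.card]; norm_num))

theorem mainJ (hU : UJ G) (hL : LJ G) : Nonempty (G ≃* Spor.J1 × Spor.J1) := by
  obtain ⟨K, _, hK, hF⟩ := exists_rad G
  have hπ := QuotientGroup.mk'_surjective K
  rw [← QuotientGroup.ker_mk' K] at hK
  generalize QuotientGroup.mk' K = π at hπ hK
  have hU' := hU.of_surj π hπ
  by_cases h0 : ∀ L : Subgroup (G ⧸ K), IsComponent L → ¬ (JP L ∧ Nonempty (L ≃* Spor.J1))
  · have h1 := fun L h => (or_assoc.2 (comp_cases hF hU' (L := L) h).2).resolve_right (h0 L h)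
    by_cases h2 : ∀ L : Subgroup (G ⧸ K), IsComponent L → Nat.card L = 60
    · exact (all60 hU hL hπ hK hF h2).elim
    push Not at h2
    obtain ⟨S, hS, h2⟩ := h2
    have h3 := (h1 S hS).resolve_left h2
    exact (some660 hU hL hπ hK hF (fun L h => by
      rcases h1 L h with h6 | ⟨h6, -⟩ <;> rw [h6] <;> norm_num) hS h3.1 h3.2).elim
  push Not at h0
  obtain ⟨S, hS, s₁, ⟨e₁⟩⟩ := h0
  by_cases h1 : ∀ L : Subgroup (G ⧸ K), IsComponent L → L = S
  · have h2 : (⊤ : Subgroup (G ⧸ K)) ≤ S ⊔ 𝒞(S) := fun g _ =>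
      s₁.out1 (mem_norm_iff.2 (h1 _ (comp_map_conj hS g)))
    rw [eq_bot_of_cents hF (X := 𝒞(S)) fun L h => (h1 L h).symm ▸ le_rfl, sup_bot_eq,
      top_le_iff] at h2
    exact (JP.one (h2 ▸ s₁) hU hL hπ hK).elim
  push Not at h1
  obtain ⟨T, hT, hne⟩ := h1
  have hc := comp_le_centralizer_of_ne hS hT hne.symm
  obtain ⟨E, hE⟩ := exists_pn2 Nat.prime_two (hU'.sq Nat.prime_two)
    (Dvd.dvd.trans (by norm_num) (comp_cases hF hU' hT).1.d60)
  have h3 := fun r => s₁.no_rho hU hπ hK (hE.mono (cents_symm hc)) (r := r)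
  obtain ⟨s₂, ⟨e₂⟩⟩ := s₁.other hF hU' ((hL 133 (by decide)).map_of_coprime π
    (Nat.Coprime.mul_left (m := 7) (n := 19)
      ((Nat.Prime.coprime_iff_not_dvd (by norm_num)).2 (h3 7 (by decide)))
      ((Nat.Prime.coprime_iff_not_dvd (by norm_num)).2 (h3 19 (by decide))))) hS hT hne
  have h2 : ∀ L : Subgroup (G ⧸ K), IsComponent L → L = S ∨ L = T := fun L h => by
    by_contra hn
    push Not at hn
    exact hU'.no (by decide) (hasOrd_three hc (comp_le_centralizer_of_ne hS h hn.1.symm)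
      (comp_le_centralizer_of_ne hT h hn.2.symm) (a := 7) (b := 11) (by norm_num) (by norm_num)
      Nat.prime_two (by norm_num) (by norm_num) (by norm_num) (by rw [s₁.card]; norm_num)
      (by rw [s₂.card]; norm_num) (Dvd.dvd.trans (by norm_num) (comp_cases hF hU' h).1.d60))
  have hCC : 𝒞(S) ⊓ 𝒞(T) = ⊥ := eq_bot_of_cents hF fun L h => by
    rcases h2 L h with rfl | rfl
    · exact inf_le_left
    · exact inf_le_right
  have hn : ∀ g, cj g S = S ∧ cj g T = T := fun g => by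
    rcases h2 _ (comp_map_conj hS g) with e | e <;> rcases h2 _ (comp_map_conj hT g) with e' | e'
    · exact absurd (cj_injective g (e'.trans (Eq.symm e))) hne
    · exact ⟨e, e'⟩
    · exact (s₁.no_swap (hU'.sq Nat.prime_two) s₂ hc hCC e e').elim
    · exact absurd (cj_injective g (e'.trans (Eq.symm e))) hne
  obtain ⟨e⟩ := nonempty_prod hc (le_bot_iff.1 (s₁.inf_cent ▸ inf_le_inf_left S (cents_symm hc)))
    (eq_top_iff.2 fun g _ => by
      obtain ⟨a, ha, b, hb, rfl⟩ := mem_sup_of hc hCC (s₁.out1 (mem_norm_iff.2 (hn g).1))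
        (s₂.out1 (mem_norm_iff.2 (hn g).2))
      exact mul_mem (mem_sup_left ha) (mem_sup_right hb))
  exact ⟨(MulEquiv.ofBijective π ⟨(MonoidHom.ker_eq_bot_iff π).1
    (s₁.ker_eq_bot s₂ hc hU hπ hK h3), hπ⟩).trans (e.trans (e₁.prodCongr e₂))⟩

theorem recogJ (h : Set.range (orderOf : G → ℕ) = Set.range (orderOf : Spor.J1 × Spor.J1 → ℕ)) :
    Nonempty (G ≃* Spor.J1 × Spor.J1) := by
  rw [Agent.S3627.spec_prod Agent.S3627.spec Agent.S3627.spec] at h
  refine mainJ (fun g => ?_) fun m hm => ?_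
  · have h1 := h.le ⟨g, rfl⟩
    generalize orderOf g = n at h1
    rw [Set.mem_ofPred_eq] at h1
    revert n
    decide +kernel
  · rw [hasOrd_iff_mem_range, h, Set.mem_ofPred_eq]
    revert m
    decide +kernel

end CfsgLib.SpecSq
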